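import Cfsg.Agent.Lib.CanExt26.Setup
import Cfsg.Agent.Lib.CanExt26.Glue
import Cfsg.Agent.Lib.Transfer.Frobenius
import Cfsg.Agent.Lib.Chars82.FieldOfValues
import Cfsg.Agent.Lib.PIndexBlock.Criterion

/-!
# The canonical extension of an invariant p-rational character of the principal block

An extension is *good* when it is congruent to the degree at the regular elements centralising a
Sylow subgroup of `N` and its determinant has order prime to `p`.
-/

set_option autoImplicit false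

namespace Cfsg.Agent.Lib.CanExt26.Main

open Cfsg.Agent.Lib.CanExt26.Setup Cfsg.Agent.Lib.Blocks
open Cfsg.Agent.Lib.Induced.Basic Cfsg.Agent.Lib.Characters.Basic
open Cfsg.Agent.Lib.BC78.Galois Cfsg.Agent.Lib.Chars82.FieldOfValues

universe u

variable {G : Type u} [Group G] [Finite G] {p : ℕ} [hpF : Fact p.Prime] {M : Ideal Cfsg.AlgInt}
  [M.IsMaximal] {N : Subgroup G} [hN : N.Normal]

/-- A good extension of `θ` to `H`. -/
structure Good (p : ℕ) (M : Ideal Cfsg.AlgInt) (N : Subgroup G) (θ : Cfsg.IrrCharacter N) (n₀ : ℕ)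
    (H : Subgroup G) (χ : Cfsg.IrrCharacter H) : Prop where
  le : N ≤ H
  ext : ∀ (n : N) (h : H), (h : G) = n → (χ : H → ℂ) h = (θ : N → ℂ) n
  can : ∀ h : H, ¬ p ∣ orderOf (h : G) → Near p N (h : G) →
    Cfsg.MemLocalIdeal M ((χ : H → ℂ) h - (θ : N → ℂ) 1)
  det : ∀ h : H, Cfsg.detChar (χ : H → ℂ) h ^ n₀ = 1

variable (hM : Cfsg.IsPModular p M) {θ : Cfsg.IrrCharacter N} {n₀ : ℕ} (hn₀ : ¬ p ∣ n₀)
  (hd : ¬ p ∣ Cfsg.charDegree (θ : N → ℂ)) {Q : Sylow p N}
  (hidx : ∃ a : ℕ, (N ⊔ cenIn Q).index = p ^ a)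
  (hinv : ∀ g : G, ∀ n n' : N, (n' : G) = g * (n : G) * g⁻¹ → (θ : N → ℂ) n' = (θ : N → ℂ) n)

include hM hd in
/-- A root of unity of order prime to `p` that keeps the congruence is trivial. -/
theorem root_one {z a : ℂ} {m : ℕ} (hm : ¬ p ∣ m) (hz : z ^ m = 1)
    (h1 : Cfsg.MemLocalIdeal M (a - (θ : N → ℂ) 1))
    (h2 : Cfsg.MemLocalIdeal M (z * a - (θ : N → ℂ) 1)) : z = 1 := by
  refine BC78.PBRestrict.root_eq_one hM hm hz ?_
  have hm0 : m ≠ 0 := fun h0 => hm (h0 ▸ dvd_zero p)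
  have hzR : z ∈ localRing M :=
    mem_localRing_of_isIntegral (BC78.Roots.isIntegral_of_pow_eq_one hm0 hz)
  have h3 := memLocalIdeal_mul_left (natCast_inv_mem_localRing hM hd)
    (memLocalIdeal_sub h2 (memLocalIdeal_mul_left hzR h1))
  have hne : (Cfsg.charDegree (θ : N → ℂ) : ℂ) ≠ 0 := by
    rw [← Blocks.char_one_eq_degree]; exact Blocks.char_one_ne_zero θ
  rw [Blocks.char_one_eq_degree θ] at h3
  convert h3 using 1
  field_simp
  ring

omit hpF [M.IsMaximal] hN in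
theorem degree_eq {H : Subgroup G} {χ : Cfsg.IrrCharacter H} (h : Good p M N θ n₀ H χ) :
    Cfsg.charDegree (χ : H → ℂ) = Cfsg.charDegree (θ : N → ℂ) := by
  have e := h.ext 1 1 (by simp)
  unfold Cfsg.charDegree
  rw [e]

omit hpF [M.IsMaximal] hN in
theorem good_restrict {L H : Subgroup G} (hLH : L ≤ H) (hNL : N ≤ L) {χ : Cfsg.IrrCharacter H}
    {ψ : Cfsg.IrrCharacter L} (h : Good p M N θ n₀ H χ)
    (hψ : ∀ l, (ψ : L → ℂ) l = (χ : H → ℂ) (Subgroup.inclusion hLH l)) :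
    Good p M N θ n₀ L ψ where
  le := hNL
  ext n l e := by rw [hψ]; exact h.ext n _ e
  can l h1 h2 := by rw [hψ]; exact h.can _ h1 h2
  det l := by rw [detChar_comp (Subgroup.inclusion hLH) χ ψ hψ]; exact h.det _

include hinv in
omit [M.IsMaximal] in
theorem good_conj (x : G) {H H' : Subgroup G} (hNH' : N ≤ H')
    {χ : Cfsg.IrrCharacter H} {ψ : Cfsg.IrrCharacter H'} (h : Good p M N θ n₀ H χ)
    (hmem : ∀ h' : H', x⁻¹ * (h' : G) * x ∈ H)
    (hψ : ∀ h' : H', (ψ : H' → ℂ) h' = (χ : H → ℂ) ⟨_, hmem h'⟩) :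
    Good p M N θ n₀ H' ψ where
  le := hNH'
  ext n h' e := by
    have hx : x⁻¹ * (n : G) * x ∈ N := by simpa using hN.conj_mem _ n.2 x⁻¹
    rw [hψ, h.ext ⟨_, hx⟩ _ (show x⁻¹ * (h' : G) * x = x⁻¹ * (n : G) * x by rw [e])]
    exact hinv x⁻¹ n ⟨_, hx⟩ (by simp)
  can h' h1 h2 := by
    rw [hψ]
    refine h.can _ ?_ ?_
    · show ¬ p ∣ orderOf (x⁻¹ * (h' : G) * x)
      rwa [show x⁻¹ * (h' : G) * x = x⁻¹ * (h' : G) * x⁻¹⁻¹ by rw [inv_inv],
        Blocks.orderOf_conj_eq]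
    · show Near p N (x⁻¹ * (h' : G) * x)
      simpa using near_conj x⁻¹ h2
  det h' := by
    let f : H' →* H :=
      { toFun := fun a => ⟨_, hmem a⟩
        map_one' := Subtype.ext (by simp)
        map_mul' := fun a b => Subtype.ext (by simp [mul_assoc]) }
    rw [detChar_comp f χ ψ hψ]; exact h.det _

include hM hn₀ hd hidx in
/-- Good extensions are unique over cyclic steps. -/
theorem good_unique_cyc (g : G) : ∀ (χ χ' : Cfsg.IrrCharacter ↥(N ⊔ Subgroup.zpowers g)),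
    Good p M N θ n₀ _ χ → Good p M N θ n₀ _ χ' → χ = χ' := by
  classical
  set Z := N ⊔ Subgroup.zpowers g with hZ
  intro χ χ' hχ hχ'
  haveI := Fintype.ofFinite Z
  haveI := Fintype.ofFinite (N.subgroupOf Z)
  haveI : IsCyclic (Z ⧸ N.subgroupOf Z) := BC78.LinTwist.cyclic_of_le_sup (K := N) (H := Z)
    le_sup_left (Subgroup.mem_sup_right (Subgroup.mem_zpowers g)) le_rfl
  let e := Subgroup.subgroupOfEquivOfLe (le_sup_left : N ≤ Z)
  let θ' : Cfsg.IrrCharacter (N.subgroupOf Z) :=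
    ⟨(θ : N → ℂ) ∘ e.toMonoidHom, isIrrCharacter_comp _ e.surjective θ.2⟩
  have hres : ∀ φ, Good p M N θ n₀ Z φ →
      (fun x : N.subgroupOf Z => (φ : Z → ℂ) x) = (θ' : N.subgroupOf Z → ℂ) :=
    fun φ hφ => funext fun x => hφ.ext (e x) (x : Z) rfl
  obtain ⟨l, hl, hlχ⟩ := BC78.LinTwist.exists_twist (N.subgroupOf Z)
    BC78.LinTwist.isCyclic_comm χ χ' (by
      rw [hres χ hχ, hres χ' hχ', classInner_self_irr]; exact one_ne_zero)
  -- trivial on the regular elements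
  have hreg : ∀ y : Z, ¬ p ∣ orderOf (y : G) → l y = 1 := by
    intro y hy
    obtain ⟨c, hcN, hc1, hc2⟩ := exists_near_lift hidx hy
    have hcZ : c ∈ Z := by
      rw [show c = ((y : G) * c⁻¹)⁻¹ * (y : G) by group]
      exact mul_mem (inv_mem (Subgroup.mem_sup_left hcN)) y.2
    have hyc : l y = l (⟨c, hcZ⟩ : Z) := by
      have h1 : l (y * (⟨c, hcZ⟩ : Z)⁻¹) = 1 := hl _ hcN
      rwa [map_mul, map_inv, mul_inv_eq_one] at h1
    rw [hyc]
    refine Units.ext ?_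
    rw [Units.val_one]
    refine root_one hM hd hc1 ?_ (hχ.can ⟨c, hcZ⟩ hc1 hc2) ?_
    · rw [← Units.val_pow_eq_pow_val, ← map_pow,
        show (⟨c, hcZ⟩ : Z) ^ orderOf c = 1 from Subtype.ext (by simp [pow_orderOf_eq_one]),
        map_one, Units.val_one]
    · have h1 := hχ'.can ⟨c, hcZ⟩ hc1 hc2
      rwa [← hlχ, BC78.LinTwist.twist_apply] at h1
  suffices h : ∀ z : Z, (l z : ℂ) = 1 by
    rw [← hlχ]
    exact Subtype.ext (funext fun z => by rw [BC78.LinTwist.twist_apply, h z, one_mul])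
  intro z
  have hp : p.Prime := Fact.out
  obtain ⟨a, m, hm, he⟩ :=
    Nat.exists_eq_pow_mul_and_not_dvd (orderOf_pos (z : G)).ne' p hp.ne_one
  have h1 : l z ^ p ^ a = 1 := by
    rw [← map_pow]
    refine hreg _ fun h => hm (h.trans (orderOf_dvd_of_pow_eq_one ?_))
    rw [SubgroupClass.coe_pow, ← pow_mul, ← he, pow_orderOf_eq_one]
  have h2 : l z ^ (Cfsg.charDegree (θ : N → ℂ) * n₀) = 1 := by
    refine Units.ext ?_
    rw [Units.val_pow_eq_pow_val, Units.val_one, pow_mul]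
    have h3 := hχ'.det z
    rwa [← hlχ, detChar_twist, degree_eq hχ, mul_pow, hχ.det z, mul_one] at h3
  rw [← Units.val_one, Units.val_inj, ← orderOf_eq_one_iff]
  refine Nat.eq_one_of_dvd_coprimes ?_ (orderOf_dvd_of_pow_eq_one h1)
    (orderOf_dvd_of_pow_eq_one h2)
  exact Nat.Coprime.pow_left a
    (Nat.Coprime.mul_right (hp.coprime_iff_not_dvd.mpr hd) (hp.coprime_iff_not_dvd.mpr hn₀))

include hM hn₀ hd hidx in
/-- Good extensions are unique. -/
theorem good_unique {H : Subgroup G} {χ χ' : Cfsg.IrrCharacter H} (hχ : Good p M N θ n₀ H χ)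
    (hχ' : Good p M N θ n₀ H χ') : χ = χ' := by
  classical
  haveI := Fintype.ofFinite G
  refine Subtype.ext (funext fun h => ?_)
  have hle : N ⊔ Subgroup.zpowers (h : G) ≤ H := sup_le hχ.le (Subgroup.zpowers_le.2 h.2)
  obtain ⟨ψ, hψ⟩ := BC78.GlueExt.exists_restrict N le_sup_left hle χ hχ.ext
  obtain ⟨ψ', hψ'⟩ := BC78.GlueExt.exists_restrict N le_sup_left hle χ' hχ'.ext
  have h1 := good_unique_cyc hM hn₀ hd hidx _ ψ ψ' (good_restrict hle le_sup_left hχ hψ)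
    (good_restrict hle le_sup_left hχ' hψ')
  have hm : (h : G) ∈ N ⊔ Subgroup.zpowers (h : G) :=
    Subgroup.mem_sup_right (Subgroup.mem_zpowers _)
  exact (hψ ⟨h, hm⟩).symm.trans ((congrArg
    (fun φ : Cfsg.IrrCharacter ↥(N ⊔ Subgroup.zpowers (h : G)) =>
      (φ : ↥(N ⊔ Subgroup.zpowers (h : G)) → ℂ) ⟨(h : G), hm⟩) h1).trans (hψ' ⟨h, hm⟩))

theorem index_dvd_of_centralizes (Q' : Sylow p N) {H : Subgroup G} (hNH : N ≤ H)
    (hH : ¬ p ∣ N.relIndex H) :
    ¬ p ∣ (((Q' : Subgroup N).map N.subtype).subgroupOf H).index := by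
  show ¬ p ∣ ((Q' : Subgroup N).map N.subtype).relIndex H
  rw [← Subgroup.relIndex_mul_relIndex ((Q' : Subgroup N).map N.subtype) N H
    (Subgroup.map_subtype_le _) hNH]
  refine (Fact.out : p.Prime).not_dvd_mul ?_ hH
  rw [Subgroup.relIndex, Subgroup.subgroupOf,
    Subgroup.comap_map_eq_self_of_injective N.subtype_injective]
  exact Q'.not_dvd_index

include hM hn₀ hd hidx in
/-- Good extensions on overgroups of index prime to `p`. -/
theorem good_pprime (hθ : θ ∈ Cfsg.principalBlock M N) (hG : ∀ k, k ∣ Nat.card G → ¬ p ∣ k → k ∣ n₀)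
    (hdet : ∀ n : N, Cfsg.detChar (θ : N → ℂ) n ^ n₀ = 1)
    (H : Subgroup G) (hNH : N ≤ H) (hH : ¬ p ∣ N.relIndex H) :
    ∃ η, Good p M N θ n₀ H η := by
  classical
  haveI := Fintype.ofFinite H
  haveI := Fintype.ofFinite (N.subgroupOf H)
  let e := Subgroup.subgroupOfEquivOfLe hNH
  let θ' : Cfsg.IrrCharacter (N.subgroupOf H) :=
    ⟨(θ : N → ℂ) ∘ e.toMonoidHom, isIrrCharacter_comp _ e.surjective θ.2⟩
  have hθ' : θ' ∈ Cfsg.principalBlock M (N.subgroupOf H) :=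
    BC78.PBRestrict.mem_principalBlock_comp e hθ fun a => rfl
  let R : Subgroup G := (Q : Subgroup N).map N.subtype
  have hR : IsPGroup p (R.subgroupOf H) :=
    (Q.isPGroup'.map N.subtype).comap_of_injective H.subtype Subtype.coe_injective
  let P := hR.toSylow (index_dvd_of_centralizes Q hNH hH)
  have hsup : N.subgroupOf H ⊔ BC78.PBRestrict.cen P = ⊤ := by
    rw [eq_top_iff]
    intro z _
    obtain ⟨k, hk, hreg⟩ := exists_regular_pow (p := p) (z : G) hH
    obtain ⟨c, hc, hcN, -⟩ := exists_lift hidx hreg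
    have hzk : z ^ k * z⁻¹ ∈ N.subgroupOf H := by
      rw [← QuotientGroup.eq_one_iff, QuotientGroup.mk_mul, QuotientGroup.mk_inv,
        QuotientGroup.mk_pow, mul_inv_eq_one]
      conv_rhs => rw [← pow_one (z : H ⧸ N.subgroupOf H)]
      refine pow_eq_pow_iff_modEq.2 (hk.of_dvd (orderOf_dvd_of_pow_eq_one ?_))
      rw [← QuotientGroup.mk_pow, QuotientGroup.eq_one_iff]
      exact Subgroup.pow_index_mem _ _
    have hcH : c ∈ H := by
      rw [show c = ((z : G) ^ k * c⁻¹)⁻¹ * (z : G) ^ k by group]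
      exact mul_mem (inv_mem (hNH hcN)) (pow_mem z.2 k)
    have hcP : (⟨c, hcH⟩ : H) ∈ BC78.PBRestrict.cen P := Subgroup.mem_centralizer_iff.2
      fun y hy => Subtype.ext (Subgroup.mem_centralizer_iff.1 hc _ hy)
    have hn : z ^ k * (⟨c, hcH⟩ : H)⁻¹ ∈ N.subgroupOf H := hcN
    rw [show z = (z ^ k * z⁻¹)⁻¹ * (z ^ k * (⟨c, hcH⟩ : H)⁻¹) * (⟨c, hcH⟩ : H) by group]
    exact mul_mem (Subgroup.mem_sup_left (mul_mem (inv_mem hzk) hn)) (Subgroup.mem_sup_right hcP)
  obtain ⟨η, hη, hηN, -⟩ := BC78.PBRestrict.exists_ext hM (N.subgroupOf H) P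
    (fun h => hH h) hsup hθ'
  have hext : ∀ (n : N) (h : H), (h : G) = n → (η : H → ℂ) h = (θ : N → ℂ) n := by
    intro n h hh
    have hm : h ∈ N.subgroupOf H := by rw [Subgroup.mem_subgroupOf, hh]; exact n.2
    exact (hηN ⟨h, hm⟩).trans (congrArg (θ : N → ℂ) (Subtype.ext hh))
  refine ⟨η, hNH, hext, fun h h1 h2 => ?_, fun h => ?_⟩
  · obtain ⟨Q', hQ'⟩ := h2
    have hc : ¬ p ∣ (Subgroup.centralizer ({h} : Set H)).index := by
      refine fun hh => index_dvd_of_centralizes Q' hNH hH (hh.trans (Subgroup.index_dvd_of_le ?_))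
      rintro y ⟨q, hq, hqy⟩
      rw [Subgroup.mem_centralizer_singleton_iff]
      refine Subtype.ext ?_
      simp only [Subgroup.coe_mul]
      rw [show (y : G) = (q : G) from hqy.symm]
      exact (hQ' q hq).symm.eq
    have h3 := memLocalIdeal_mul_left
      (mem_localRing_of_isIntegral (M := M) (isIntegral_apply (isCharacter_irr θ) 1))
      (BC78.PBRestrict.ratio_congr hM hη hc)
    rw [hext 1 1 (by simp)] at h3
    convert h3 using 1
    have hne : (θ : N → ℂ) 1 ≠ 0 := Blocks.char_one_ne_zero θ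
    field_simp
  · obtain ⟨D, hD⟩ := Clifford.Extension.exists_detHom η.2
    have hDv : ∀ y : H, (D y : ℂ) = Cfsg.detChar (η : H → ℂ) y := fun y => congrFun hD y
    have h1 : D h ^ (N.relIndex H * n₀) = 1 := by
      rw [pow_mul, ← map_pow]
      refine Units.ext ?_
      rw [Units.val_pow_eq_pow_val, Units.val_one, hDv]
      have hm : h ^ N.relIndex H ∈ N.subgroupOf H := Subgroup.pow_index_mem _ _
      rw [show Cfsg.detChar (η : H → ℂ) (h ^ N.relIndex H) =
        Cfsg.detChar (θ : N → ℂ) (e ⟨_, hm⟩) from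
        (detChar_comp (N.subgroupOf H).subtype η θ' (fun y => (hηN y).symm) ⟨_, hm⟩).symm.trans
          (detChar_comp e.toMonoidHom θ θ' (fun y => rfl) ⟨_, hm⟩)]
      exact hdet _
    have h2 : orderOf (D h) ∣ n₀ := by
      refine hG _ ?_ fun hh => ?_
      · exact ((orderOf_map_dvd D h).trans (orderOf_dvd_natCard h)).trans
          (Subgroup.card_subgroup_dvd_card H)
      · exact (Fact.out : p.Prime).not_dvd_mul hH hn₀ (hh.trans (orderOf_dvd_of_pow_eq_one h1))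
    rw [← hDv, ← Units.val_pow_eq_pow_val, orderOf_dvd_iff_pow_eq_one.1 h2, Units.val_one]

include hM hn₀ hd hidx hinv in
/-- Good extensions on nilpotent supplements. -/
theorem good_nilpotent (hθ : θ ∈ Cfsg.principalBlock M N)
    (hG : ∀ k, k ∣ Nat.card G → ¬ p ∣ k → k ∣ n₀)
    (hdet : ∀ n : N, Cfsg.detChar (θ : N → ℂ) n ^ n₀ = 1)
    (E : Subgroup G) (hE : Group.IsNilpotent E) : ∃ χ, Good p M N θ n₀ (N ⊔ E) χ := by
  classical
  have hp : p.Prime := Fact.out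
  obtain ⟨PE, K, hKn, hKc⟩ :=
    Transfer.Frobenius.hasNormalPComplement_of_isNilpotent (p := p) (G := E)
  haveI := hKn
  obtain ⟨b, hb⟩ : ∃ b, K.index = p ^ b := by
    obtain ⟨b, hb⟩ := PE.isPGroup'.exists_card_eq
    exact ⟨b, hKc.symm.index_eq_card.trans hb⟩
  have hKcard : ¬ p ∣ Nat.card K := by
    rw [← hKc.index_eq_card]; exact PE.not_dvd_index
  set K' : Subgroup G := K.map E.subtype with hK'
  have hK'E : K' ≤ E := Subgroup.map_subtype_le K
  set X := N ⊔ E with hX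
  set X₁ := N ⊔ K' with hX₁
  have h1X : X₁ ≤ X := sup_le_sup_left hK'E N
  have hH : ¬ p ∣ N.relIndex X₁ := by
    intro h
    rw [hX₁, sup_comm, Subgroup.relIndex_sup_right] at h
    refine hKcard (h.trans ((Subgroup.relIndex_dvd_card N K').trans ?_))
    rw [show Nat.card K' = Nat.card K from
      (Nat.card_congr (K.equivMapOfInjective _ E.subtype_injective).toEquiv).symm]
  haveI hn1 : (X₁.subgroupOf X).Normal := by
    rw [Subgroup.normal_subgroupOf_iff_le_normalizer h1X]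
    refine sup_le ((le_sup_left : N ≤ X₁).trans Subgroup.le_normalizer) fun x hx => ?_
    refine Subgroup.mem_normalizer_fintype fun l hl => ?_
    obtain ⟨a, ha, c, hc, rfl⟩ := Subgroup.mem_sup_of_normal_left.1 hl
    obtain ⟨k, hk, rfl⟩ := hc
    rw [show x * (a * (E.subtype k)) * x⁻¹ = x * a * x⁻¹ * (x * (E.subtype k) * x⁻¹) by group]
    exact mul_mem (Subgroup.mem_sup_left (hN.conj_mem a ha x))
      (Subgroup.mem_sup_right ⟨⟨x, hx⟩ * k * (⟨x, hx⟩ : E)⁻¹, hKn.conj_mem k hk _, rfl⟩)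
  have hpq : IsPGroup p (X ⧸ X₁.subgroupOf X) := by
    intro q
    refine QuotientGroup.induction_on q fun x => ⟨b, ?_⟩
    obtain ⟨n, hn, y, hy, hny⟩ := Subgroup.mem_sup_of_normal_left.1 x.2
    have hnX : n ∈ X := Subgroup.mem_sup_left hn
    have hyX : y ∈ X := Subgroup.mem_sup_right hy
    rw [show x = (⟨n, hnX⟩ : X) * ⟨y, hyX⟩ from Subtype.ext hny.symm, QuotientGroup.mk_mul,
      (QuotientGroup.eq_one_iff (N := X₁.subgroupOf X) (⟨n, hnX⟩ : X)).2
        (show n ∈ X₁ from Subgroup.mem_sup_left hn), one_mul,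
      ← QuotientGroup.mk_pow, QuotientGroup.eq_one_iff, ← hb]
    exact Subgroup.mem_sup_right ⟨(⟨y, hy⟩ : E) ^ K.index, Subgroup.pow_index_mem K _, rfl⟩
  obtain ⟨η, hη⟩ := good_pprime hM hn₀ hd hidx hθ hG hdet X₁ le_sup_left hH
  set N₁ := X₁.subgroupOf X with hN₁
  haveI := Fintype.ofFinite X
  haveI := Fintype.ofFinite N₁
  let e := Subgroup.subgroupOfEquivOfLe h1X
  let η' : Cfsg.IrrCharacter N₁ :=
    ⟨(η : X₁ → ℂ) ∘ e.toMonoidHom, isIrrCharacter_comp _ e.surjective η.2⟩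
  have hη'e : ∀ y : N₁, (η' : N₁ → ℂ) y = (η : X₁ → ℂ) (e y) := fun y => rfl
  have hinvη : ∀ (g : X) (n : N₁),
      (η' : N₁ → ℂ) ⟨g * n * g⁻¹, hn1.conj_mem (n : X) n.2 g⟩ = (η' : N₁ → ℂ) n := by
    intro g n
    have hmem : ∀ h : X₁, ((g : G)⁻¹)⁻¹ * (h : G) * (g : G)⁻¹ ∈ X₁ := fun h => by
      rw [inv_inv]; exact hn1.conj_mem (⟨(h : G), h1X h.2⟩ : X) h.2 g
    let f : X₁ →* X₁ :=
      { toFun := fun a => ⟨_, hmem a⟩
        map_one' := Subtype.ext (by simp)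
        map_mul' := fun a c => Subtype.ext (by simp [mul_assoc]) }
    have hf : Function.Surjective f := by
      refine (Finite.injective_iff_surjective.1 fun a c h => ?_)
      have h' := congrArg Subtype.val h
      exact Subtype.ext (mul_left_cancel (mul_right_cancel h'))
    let ψ : Cfsg.IrrCharacter X₁ := ⟨(η : X₁ → ℂ) ∘ f, isIrrCharacter_comp f hf η.2⟩
    have hψ : Good p M N θ n₀ X₁ ψ := good_conj hinv (g : G)⁻¹ le_sup_left hη hmem fun h => rfl
    have h2 := congrArg (fun φ : Cfsg.IrrCharacter X₁ => (φ : X₁ → ℂ) (e n))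
      (good_unique hM hn₀ hd hidx hψ hη)
    refine Eq.trans ?_ h2
    show (η : X₁ → ℂ) (e _) = (η : X₁ → ℂ) (f (e n))
    refine congrArg (η : X₁ → ℂ) (Subtype.ext ?_)
    show (g : G) * ((n : X) : G) * (g : G)⁻¹ = ((g : G)⁻¹)⁻¹ * ((n : X) : G) * (g : G)⁻¹
    rw [inv_inv]
  obtain ⟨c, hc⟩ : ∃ c, N₁.index = p ^ c := by
    obtain ⟨c, hc⟩ := hpq.exists_card_eq
    exact ⟨c, by rw [Subgroup.index_eq_card]; exact hc⟩
  obtain ⟨lam, hlam⟩ := Clifford.Extension.exists_detHom η'.2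
  have hlamv : ∀ y : N₁, (lam y : ℂ) = Cfsg.detChar (η' : N₁ → ℂ) y := fun y => congrFun hlam y
  have hlame : ∀ y : N₁, (lam y : ℂ) = Cfsg.detChar (η : X₁ → ℂ) (e y) := fun y =>
    (hlamv y).trans (detChar_comp e.toMonoidHom η η' (fun z => rfl) y)
  have hord : orderOf lam ∣ n₀ := orderOf_dvd_of_pow_eq_one (MonoidHom.ext fun y => Units.ext (by
    rw [MonoidHom.pow_apply, Units.val_pow_eq_pow_val, hlame, hη.det]; rfl))
  have hlaminv : ∀ (g : X) (n : N₁),
      lam ⟨g * n * g⁻¹, hn1.conj_mem (n : X) n.2 g⟩ = lam n := by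
    intro g n
    refine Units.ext ?_
    rw [hlamv, hlamv]
    let f : N₁ →* N₁ :=
      { toFun := fun a => ⟨g * a * g⁻¹, hn1.conj_mem (a : X) a.2 g⟩
        map_one' := Subtype.ext (by simp)
        map_mul' := fun a c => Subtype.ext (by simp [mul_assoc]) }
    exact (detChar_comp f η' η' (fun y => (hinvη g y).symm) n).symm
  obtain ⟨μ, hμ, hμo⟩ := Clifford.Linear.exists_coprime_extension N₁ lam hlaminv (by
    rw [hc]
    exact Nat.Coprime.pow_left c (hp.coprime_iff_not_dvd.mpr fun h => hn₀ (h.trans hord)))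
  obtain ⟨χf, hχ, hχN, hχd⟩ := Clifford.Extension.exists_extension_char N₁ η'.2 hinvη
    (d := Cfsg.charDegree (η : X₁ → ℂ))
    (by rw [hη'e, map_one]; exact Blocks.char_one_eq_degree η)
    (by
      rw [hc, degree_eq hη]
      exact Nat.Coprime.pow_left c (hp.coprime_iff_not_dvd.mpr hd))
    μ (fun n => by rw [hμ, hlamv])
  refine ⟨⟨χf, hχ⟩, le_sup_left, fun n h hh => ?_, fun h h1 h2 => ?_, fun h => ?_⟩
  · have hm : h ∈ N₁ := by
      rw [hN₁, Subgroup.mem_subgroupOf, hh]; exact Subgroup.mem_sup_left n.2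
    exact (hχN ⟨h, hm⟩).trans (hη.ext n _ hh)
  · have hm : h ∈ N₁ := by
      rw [← QuotientGroup.eq_one_iff (N := N₁), ← orderOf_eq_one_iff]
      obtain ⟨i, hi⟩ := hpq (h : X ⧸ N₁)
      refine Nat.eq_one_of_dvd_coprimes (a := orderOf (h : G)) (b := p ^ i)
        (Nat.Coprime.pow_right i (hp.coprime_iff_not_dvd.mpr h1).symm) ?_
        (orderOf_dvd_of_pow_eq_one hi)
      rw [Subgroup.orderOf_coe]
      exact orderOf_map_dvd (QuotientGroup.mk' N₁) h
    show Cfsg.MemLocalIdeal M (χf h - _)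
    rw [show χf h = (η' : N₁ → ℂ) ⟨h, hm⟩ from hχN ⟨h, hm⟩]
    exact hη.can _ h1 h2
  · show Cfsg.detChar χf h ^ n₀ = 1
    rw [hχd]
    show (μ h : ℂ) ^ n₀ = 1
    rw [← Units.val_pow_eq_pow_val, ← MonoidHom.pow_apply,
      orderOf_dvd_iff_pow_eq_one.1 (hμo ▸ hord), MonoidHom.one_apply, Units.val_one]

omit hpF in
/-- An automorphism that powers the roots of unity acts on character values by the power map. -/
theorem sigma_char {X : Type u} [Group X] [Finite X] (σ : Alg ≃ₐ[ℚ] Alg) {k : ℕ}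
    (hσ : ∀ (z : ℂ) (_ : z ^ Nat.card X = 1) (hm : z ∈ Alg),
      ((σ ⟨z, hm⟩ : Alg) : ℂ) = z ^ k)
    (χ : Cfsg.IrrCharacter X) (g : X) (hm : (χ : X → ℂ) g ∈ Alg) :
    ((σ ⟨(χ : X → ℂ) g, hm⟩ : Alg) : ℂ) = (χ : X → ℂ) (g ^ k) := by
  classical
  obtain ⟨n, ρ, hρ⟩ := isCharacter_irr χ
  obtain ⟨ι, hι, b, ζ, hb, -, hchar⟩ := Characters.Diag.exists_eigenbasis_card ρ g
  have hmem : ∀ i, ζ i ∈ Alg := fun i => mem_alg_of_pow_eq_one Nat.card_pos (hb i).2
  have h1 : (⟨(χ : X → ℂ) g, hm⟩ : Alg) = ∑ i, (⟨ζ i, hmem i⟩ : Alg) := by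
    apply Subtype.ext
    push_cast
    rw [← hρ]
    exact hchar
  have h2 : ∀ (j : ℕ) i, (ρ (g ^ j)) (b i) = ζ i ^ j • b i := by
    intro j i
    rw [map_pow]
    induction j with
    | zero => simp
    | succ j ih =>
      rw [pow_succ, Module.End.mul_apply, (hb i).1, map_smul, ih, smul_smul, pow_succ']
  rw [h1, map_sum, ← hρ]
  push_cast
  rw [show ρ.character (g ^ k) = ∑ i, ζ i ^ k from
    Characters.Diag.trace_eq_sum_eigenvalues b _ _ (h2 k)]
  exact Finset.sum_congr rfl fun i _ => hσ _ (hb i).2 (hmem i)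

include hM hd in
omit hN in
/-- A character congruent to a degree prime to `p` at the regular elements centralising `P` is
in the principal block. -/
theorem principal_of_congr [Fintype G] (P : Sylow p G) (χ : Cfsg.IrrCharacter G)
    (h : ∀ g : G, ¬ p ∣ orderOf g → (∀ u ∈ (P : Subgroup G), Commute g u) →
      Cfsg.MemLocalIdeal M ((χ : G → ℂ) g - (θ : N → ℂ) 1)) :
    χ ∈ Cfsg.principalBlock M G := by
  classical
  letI := Ideal.Quotient.field M
  haveI := charP_residue hM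
  rw [PIndexBlock.Criterion.mem_principalBlock_iff hM]
  intro h0
  let X := {g : G // ¬ p ∣ orderOf g}
  letI : MulAction (P : Subgroup G) X :=
    { smul := fun u g => ⟨(u : G) * g.1 * (u : G)⁻¹, by rw [Blocks.orderOf_conj_eq]; exact g.2⟩
      one_smul := fun g => Subtype.ext (by show (1 : G) * g.1 * (1 : G)⁻¹ = g.1; simp)
      mul_smul := fun u v g => Subtype.ext (by
        show ((u * v : (P : Subgroup G)) : G) * g.1 * ((u * v : (P : Subgroup G)) : G)⁻¹ =
          (u : G) * ((v : G) * g.1 * (v : G)⁻¹) * (u : G)⁻¹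
        simp [mul_assoc]) }
  have hint : ∀ g, (χ : G → ℂ) g ∈ localRing M := fun g =>
    mem_localRing_of_isIntegral (isIntegral_apply (isCharacter_irr χ) g)
  let f : X → Cfsg.AlgInt ⧸ M := fun g => residue M ⟨_, hint g.1⟩
  have hf : ∀ (u : (P : Subgroup G)) (g : X), f (u • g) = f g := fun u g => by
    refine congrArg (residue M) (Subtype.ext ?_)
    exact Blocks.char_eq_of_isConj χ (isConj_iff.2 ⟨(u : G), rfl⟩).symm
  have hθR : (θ : N → ℂ) 1 ∈ localRing M :=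
    mem_localRing_of_isIntegral (isIntegral_apply (isCharacter_irr θ) 1)
  have hfix : ∀ g ∈ MulAction.fixedPoints (P : Subgroup G) X, f g = residue M ⟨_, hθR⟩ := by
    intro g hg
    have hcomm : ∀ u ∈ (P : Subgroup G), Commute g.1 u := fun u hu => by
      have h1 : u * g.1 * u⁻¹ = g.1 := congrArg Subtype.val (hg ⟨u, hu⟩)
      exact (mul_inv_eq_iff_eq_mul.1 h1).symm
    rw [← sub_eq_zero, ← map_sub, residue_eq_zero_iff]
    exact h g.1 g.2 hcomm
  have h1 := BrauerMap.Basic.sum_eq_sum_fixed P.isPGroup' f hf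
  have h2 := BrauerMap.Basic.sum_eq_sum_fixed P.isPGroup' (fun _ : X => residue M ⟨_, hθR⟩)
    (fun _ _ => rfl)
  rw [Finset.sum_congr rfl fun g hg => hfix g (Finset.mem_filter.1 hg).2, ← h2,
    Finset.sum_const, Finset.card_univ, nsmul_eq_mul] at h1
  have hz : ∑ g : X, f g = 0 := by
    rw [← map_sum]
    convert map_zero (residue M)
    refine Subtype.ext ?_
    push_cast
    rw [← h0, Finset.sum_ite, Finset.sum_const_zero, zero_add]
    exact (Finset.sum_subtype (p := fun g => ¬ p ∣ orderOf g) _ (fun g => by simp)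
      (fun g => (χ : G → ℂ) g)).symm
  rw [hz] at h1
  rcases mul_eq_zero.1 h1.symm with h3 | h3
  · have h4 := omegaBar_regElt_ne_zero (M := M) (χ := oneChar G) hM blockHeight_oneChar
    refine h4 ?_
    rw [omegaBar_mapCenter]
    have hval : omegaR M (oneChar G) (regElt M p (oneChar G)) = (Fintype.card X : localRing M) := by
      refine Subtype.ext ?_
      rw [coe_omegaR_regElt]
      simp [oneChar_apply, Finset.sum_ite, Fintype.card_subtype, X]
    rw [hval, map_natCast]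
    exact h3
  · rw [residue_eq_zero_iff] at h3
    change Cfsg.MemLocalIdeal M ((θ : N → ℂ) 1) at h3
    rw [Blocks.char_one_eq_degree, memLocalIdeal_natCast_iff hM] at h3
    exact hd h3

include hM hd hidx hinv in
/-- The main theorem. -/
theorem exists_canonical (hp2 : p ≠ 2) (hθ : θ ∈ Cfsg.principalBlock M N) {m : ℕ} (hm : ¬ p ∣ m)
    (hrat : ∀ n : N, (θ : N → ℂ) n ∈ IntermediateField.adjoin ℚ
      ({Complex.exp (2 * Real.pi * Complex.I / m)} : Set ℂ)) :
    ∃ χ : Cfsg.IrrCharacter G, χ ∈ Cfsg.principalBlock M G ∧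
      (∃ n : ℕ, ¬ p ∣ n ∧ ∀ g : G, (χ : G → ℂ) g ∈ IntermediateField.adjoin ℚ
        ({Complex.exp (2 * Real.pi * Complex.I / n)} : Set ℂ)) ∧
      ∀ n : N, (χ : G → ℂ) n = (θ : N → ℂ) n := by
  classical
  haveI := Fintype.ofFinite G
  have hp : p.Prime := Fact.out
  obtain ⟨a, q, hq, hGq⟩ :=
    Nat.exists_eq_pow_mul_and_not_dvd (Nat.card_pos (α := G)).ne' p hp.ne_one
  set n₁ := m * q with hn₁def
  have hn₁ : ¬ p ∣ n₁ := hp.not_dvd_mul hm hq
  have hn₁0 : n₁ ≠ 0 := fun h => hn₁ (h ▸ dvd_zero p)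
  have hmd : m ∣ n₁ := dvd_mul_right m q
  have hG : ∀ k, k ∣ Nat.card G → ¬ p ∣ k → k ∣ n₁ := fun k hk hk' => by
    rw [hGq] at hk
    exact (Nat.Coprime.dvd_of_dvd_mul_left
      (Nat.Coprime.pow_right a (hp.coprime_iff_not_dvd.mpr hk').symm) hk).trans (dvd_mul_left q m)
  have hm0 : 0 < m := Nat.pos_of_ne_zero fun h => hm (h ▸ dvd_zero p)
  have hζm := Complex.isPrimitiveRoot_exp m hm0.ne'
  -- automorphisms fixing the roots of unity of order `n₁` fix `θ`
  have hθfix : ∀ (σ : Alg ≃ₐ[ℚ] Alg) (k : ℕ), k ≡ 1 [MOD n₁] →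
      (∀ (z : ℂ) (_ : z ^ m = 1) (hz : z ∈ Alg), ((σ ⟨z, hz⟩ : Alg) : ℂ) = z ^ k) →
      ∀ n : N, Fixes σ ((θ : N → ℂ) n) := by
    intro σ k hk hσ n
    refine fixes_of_mem_adjoin ?_ ?_ (hrat n)
    · rintro z rfl
      exact mem_alg_of_pow_eq_one hm0 hζm.pow_eq_one
    · rintro z rfl hz
      rw [hσ _ hζm.pow_eq_one hz]
      conv_rhs => rw [← pow_one (Complex.exp _)]
      rw [pow_eq_pow_mod k hζm.pow_eq_one, pow_eq_pow_mod 1 hζm.pow_eq_one, hk.of_dvd hmd]
  -- the determinant of `θ` has order prime to `p`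
  have hdet : ∀ n : N, Cfsg.detChar (θ : N → ℂ) n ^ n₁ = 1 := by
    obtain ⟨j, hj1, hj2⟩ := Nat.chineseRemainder
      (Nat.Coprime.pow_right (a + 1) (hp.coprime_iff_not_dvd.mpr hn₁).symm :
        n₁.Coprime (p ^ (a + 1))) 1 2
    have hjp : ¬ p ∣ j := fun h => hp2 (((Nat.prime_dvd_prime_iff_eq hp Nat.prime_two).1
      (((hj2.of_dvd (dvd_pow_self p a.succ_ne_zero)).dvd_iff (dvd_refl p)).1 h)))
    set L := n₁ * p ^ (a + 1) with hL
    have hL0 : 0 < L := Nat.pos_of_ne_zero (mul_ne_zero hn₁0 (pow_ne_zero _ hp.ne_zero))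
    have hjL : j.Coprime L := Nat.Coprime.mul_right
      (by
        rw [Nat.coprime_iff_gcd_eq_one, hj1.gcd_eq, Nat.gcd_one_left])
      (Nat.Coprime.pow_right _ (hp.coprime_iff_not_dvd.mpr hjp).symm)
    have hζ := Complex.isPrimitiveRoot_exp L hL0.ne'
    obtain ⟨σ, hσ⟩ := exists_aut_pow hL0 hjL hζ (mem_alg_of_pow_eq_one hL0 hζ.pow_eq_one)
    have hσ' : ∀ (z : ℂ) (_ : z ^ L = 1) (hz : z ∈ Alg), ((σ ⟨z, hz⟩ : Alg) : ℂ) = z ^ j := by
      intro z hz1 hz
      haveI : NeZero L := ⟨hL0.ne'⟩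
      obtain ⟨i, -, rfl⟩ := hζ.eq_pow_of_pow_eq_one hz1
      rw [show (⟨_, hz⟩ : Alg) =
        (⟨_, mem_alg_of_pow_eq_one hL0 hζ.pow_eq_one⟩ : Alg) ^ i from Subtype.ext (by simp),
        map_pow]
      push_cast
      rw [hσ, ← pow_mul, ← pow_mul, mul_comm i j]
    have hNL : Nat.card N ∣ L := by
      refine (Subgroup.card_subgroup_dvd_card N).trans ?_
      rw [hGq, hL, mul_comm n₁]
      exact mul_dvd_mul (pow_dvd_pow p a.le_succ) (dvd_mul_left q m)
    have hθj : ∀ n : N, (θ : N → ℂ) n = (θ : N → ℂ) (n ^ j) := fun n => by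
      have hmem : (θ : N → ℂ) n ∈ Alg :=
        mem_alg_of_isIntegral (isIntegral_apply (isCharacter_irr θ) n)
      have h1 := sigma_char σ (k := j) (fun z hz hm' => hσ' z
        (by obtain ⟨t, ht⟩ := hNL; rw [ht, pow_mul, hz, one_pow]) hm') θ n hmem
      rw [← h1]
      refine (hθfix σ j hj1 (fun z hz hz' => hσ' z ?_ hz') n hmem).symm
      obtain ⟨t, ht⟩ := hmd.trans (dvd_mul_right n₁ (p ^ (a + 1)))
      rw [hL, ht, pow_mul, hz, one_pow]
    intro n
    obtain ⟨D, hD⟩ := Clifford.Extension.exists_detHom θ.2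
    have hDv : (D n : ℂ) = Cfsg.detChar (θ : N → ℂ) n := congrFun hD n
    rw [← hDv, ← Units.val_pow_eq_pow_val, ← Units.val_one, Units.val_inj,
      ← orderOf_dvd_iff_pow_eq_one]
    refine hG _ ((orderOf_map_dvd D n).trans ((orderOf_dvd_natCard n).trans
      (Subgroup.card_subgroup_dvd_card N))) fun hh => ?_
    have h1 : D n ^ j = D n ^ 1 := Units.ext (by
      rw [pow_one, Units.val_pow_eq_pow_val, hDv]
      exact (detChar_pow_of_eq hθj n).symm)
    have h2 := ((pow_eq_pow_iff_modEq.1 h1).of_dvd hh).symm.trans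
      (hj2.of_dvd (dvd_pow_self p a.succ_ne_zero))
    have h3 := (Nat.modEq_iff_dvd' (by norm_num : 1 ≤ 2)).1 h2
    exact hp.ne_one (Nat.dvd_one.1 h3)
  obtain ⟨η, hηN, hag⟩ := Glue.glue_nilpotent N (θ := θ) (fun H χ => Good p M N θ n₁ H χ)
    (fun H _ χ h => h.ext) (fun E hE => good_nilpotent hM hn₁ hd hidx hinv hθ hG hdet E hE)
    (fun L H hLH hNL χ ψ h hψ => good_restrict hLH hNL h hψ)
    (fun g χ χ' h h' => good_unique_cyc hM hn₁ hd hidx g χ χ' h h')
    Set.univ (by rw [Subgroup.closure_univ, sup_top_eq])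
    (fun x _ H H' _ hNH' χ ψ h hmem hψ => good_conj hinv x hNH' h hmem fun h' =>
      hψ ⟨_, hmem h'⟩ h' (by group))
  have hZ : ∀ g : G, ∃ χ, Good p M N θ n₁ (N ⊔ Subgroup.zpowers g) χ := fun g =>
    good_nilpotent hM hn₁ hd hidx hinv hθ hG hdet _
      (Subgroup.isNilpotent_of_ker_le_center (1 : Subgroup.zpowers g →* PUnit.{1}) fun x _ =>
        Subgroup.mem_center_iff.2 fun y => BC78.LinTwist.isCyclic_comm y x)
  have hval : ∀ g : G, ∃ χ, Good p M N θ n₁ (N ⊔ Subgroup.zpowers g) χ ∧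
      (η : G → ℂ) g =
        (χ : ↥(N ⊔ Subgroup.zpowers g) → ℂ)
          ⟨g, Subgroup.mem_sup_right (Subgroup.mem_zpowers g)⟩ := fun g => by
    obtain ⟨χ, hχ⟩ := hZ g
    exact ⟨χ, hχ, hag _ le_sup_left χ hχ ⟨g, Subgroup.mem_sup_right (Subgroup.mem_zpowers g)⟩⟩
  refine ⟨η, ?_, ⟨n₁, hn₁, fun g => ?_⟩, hηN⟩
  · obtain ⟨P, hP⟩ := ((Q.isPGroup'.map N.subtype)).exists_le_sylow
    refine principal_of_congr hM hd P η fun g h1 h2 => ?_
    obtain ⟨χ, hχ, he⟩ := hval g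
    rw [he]
    exact hχ.can _ h1 ⟨Q, fun x hx => h2 _ (hP ⟨x, hx, rfl⟩)⟩
  · have hn₁p : 0 < n₁ := Nat.pos_of_ne_zero hn₁0
    have hζ₁ := Complex.isPrimitiveRoot_exp n₁ hn₁0
    refine mem_adjoin_of_fixes (by rintro z rfl; exact mem_alg_of_pow_eq_one hn₁p hζ₁.pow_eq_one)
      (mem_alg_of_isIntegral (isIntegral_apply (isCharacter_irr η) g)) fun σ hσ hmem => ?_
    have hL0 : n₁ * Nat.card G ≠ 0 := mul_ne_zero hn₁0 Nat.card_pos.ne'
    obtain ⟨k, hk, hσk⟩ := exists_exponent σ hL0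
    have hk1 : k ≡ 1 [MOD n₁] := by
      have h1 := hσk _ (by rw [pow_mul, hζ₁.pow_eq_one, one_pow])
        (mem_alg_of_pow_eq_one hn₁p hζ₁.pow_eq_one)
      have h2 := hσ _ rfl (mem_alg_of_pow_eq_one hn₁p hζ₁.pow_eq_one)
      rw [h2] at h1
      refine hζ₁.pow_inj (Nat.mod_lt k hn₁p) (Nat.mod_lt 1 hn₁p) ?_
      rw [← pow_eq_pow_mod k hζ₁.pow_eq_one, ← pow_eq_pow_mod 1 hζ₁.pow_eq_one, pow_one]
      exact h1.symm
    have hkG : k.Coprime (Nat.card G) := Nat.Coprime.coprime_mul_left_right hk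
    rw [sigma_char σ (fun z hz hm' => hσk z (by rw [mul_comm, pow_mul, hz, one_pow]) hm') η g hmem]
    obtain ⟨χ, hχ, he⟩ := hval g
    have hkZ : k.Coprime (Nat.card ↥(N ⊔ Subgroup.zpowers g)) :=
      Nat.Coprime.coprime_dvd_right (Subgroup.card_subgroup_dvd_card _) hkG
    let χ' : Cfsg.IrrCharacter ↥(N ⊔ Subgroup.zpowers g) :=
      ⟨fun y => (χ : _ → ℂ) (y ^ k), BC78.PowChar.isIrrCharacter_pow χ.2 hkZ⟩
    have hχ' : Good p M N θ n₁ _ χ' := by
      refine ⟨le_sup_left, fun n h hh => ?_, fun h h1 h2 => ?_, fun h => ?_⟩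
      · show (χ : _ → ℂ) (h ^ k) = _
        rw [hχ.ext (n ^ k) _ (by rw [SubgroupClass.coe_pow, SubgroupClass.coe_pow, hh])]
        have hmn : (θ : N → ℂ) n ∈ Alg :=
          mem_alg_of_isIntegral (isIntegral_apply (isCharacter_irr θ) n)
        rw [← sigma_char σ (fun z hz hm' => hσk z (by
          obtain ⟨t, ht⟩ := Subgroup.card_subgroup_dvd_card N
          rw [ht, mul_comm n₁, mul_assoc, pow_mul, hz, one_pow]) hm') θ n hmn]
        refine hθfix σ k hk1 (fun z hz hz' => hσk z ?_ hz') n hmn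
        obtain ⟨t, ht⟩ := hmd
        rw [ht, mul_assoc, pow_mul, hz, one_pow]
      · show Cfsg.MemLocalIdeal M ((χ : _ → ℂ) (h ^ k) - _)
        have hhk : h ^ k = h := by
          conv_rhs => rw [← pow_one h]
          rw [pow_eq_pow_iff_modEq, ← Subgroup.orderOf_coe]
          exact hk1.of_dvd (hG _ (orderOf_dvd_natCard _) h1)
        rw [hhk]
        exact hχ.can h h1 h2
      · rw [detChar_pow_of_eq (χ := χ) (χ' := χ') (fun y => rfl) h, ← pow_mul, mul_comm, pow_mul,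
          hχ.det h, one_pow]
    have h4 := congrArg (fun φ : Cfsg.IrrCharacter _ =>
      (φ : _ → ℂ) (⟨g, Subgroup.mem_sup_right (Subgroup.mem_zpowers g)⟩ :
        ↥(N ⊔ Subgroup.zpowers g))) (good_unique_cyc hM hn₁ hd hidx g χ' χ hχ' hχ)
    rw [he, ← h4, hag _ le_sup_left χ hχ
      (⟨g ^ k, pow_mem (Subgroup.mem_sup_right (Subgroup.mem_zpowers g)) k⟩ :
        ↥(N ⊔ Subgroup.zpowers g))]
    rfl

end Cfsg.Agent.Lib.CanExt26.Main
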