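import Cfsg.Agent.Lib.BC78.PBRestrict
import Cfsg.Agent.Lib.Clifford.Extension
import Cfsg.Prelude.Def_CharExt

/-!
# Regular elements centralising a Sylow subgroup of a normal subgroup; determinants

`Near p N g` : `g` centralises some Sylow `p`-subgroup of `N`.  When the index of `N ⊔ C_G(Q)` is a
power of `p`, every `p`-regular element is congruent modulo `N` to a `p`-regular `Near` element.
-/

set_option autoImplicit false

namespace Cfsg.Agent.Lib.CanExt26.Setup

open Cfsg.Agent.Lib.Characters.Basic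

universe u

variable {G : Type u} [Group G] {p : ℕ} [Fact p.Prime] {N : Subgroup G} [hN : N.Normal]

/-- `g` centralises some Sylow `p`-subgroup of `N`. -/
def Near (p : ℕ) (N : Subgroup G) (g : G) : Prop :=
  ∃ Q : Sylow p N, ∀ q ∈ (Q : Subgroup N), Commute g (q : G)

theorem near_conj [Finite G] {g : G} (x : G) (h : Near p N g) : Near p N (x * g * x⁻¹) := by
  obtain ⟨Q, hQ⟩ := h
  refine ⟨Q.mapSurjective (f := (MulAut.conjNormal x : MulAut N).toMonoidHom)
    (MulAut.conjNormal x : MulAut N).surjective, fun q hq => ?_⟩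
  obtain ⟨r, hr, rfl⟩ := hq
  change Commute (x * g * x⁻¹) ((MulAut.conjNormal x r : N) : G)
  rw [MulAut.conjNormal_apply]
  exact (Commute.conj_iff x).2 (hQ r hr)

theorem near_pow {g : G} (k : ℕ) (h : Near p N g) : Near p N (g ^ k) := by
  obtain ⟨Q, hQ⟩ := h
  exact ⟨Q, fun q hq => (hQ q hq).pow_left k⟩

omit hN in
theorem not_dvd_orderOf_pow [Finite G] {g : G} (hg : ¬ p ∣ orderOf g) (k : ℕ) :
    ¬ p ∣ orderOf (g ^ k) := fun h => hg (h.trans (orderOf_pow_dvd k))

/-- A power of `g` that is `p`-regular, congruent to `g` modulo any prescribed `p'`-number. -/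
theorem exists_regular_pow [Finite G] (g : G) {r : ℕ} (hr : ¬ p ∣ r) :
    ∃ k : ℕ, k ≡ 1 [MOD r] ∧ ¬ p ∣ orderOf (g ^ k) := by
  have hp : p.Prime := Fact.out
  obtain ⟨a, m, hm, he⟩ :=
    Nat.exists_eq_pow_mul_and_not_dvd (orderOf_pos g).ne' p hp.ne_one
  obtain ⟨k, hk1, hk2⟩ := Nat.chineseRemainder
    (Nat.Coprime.pow_right a (hp.coprime_iff_not_dvd.mpr hr).symm : r.Coprime (p ^ a)) 1 0
  refine ⟨k, hk1, fun h => hm (h.trans (orderOf_dvd_of_pow_eq_one ?_))⟩
  rw [← pow_mul]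
  refine orderOf_dvd_iff_pow_eq_one.1 ?_
  rw [he]
  exact Nat.mul_dvd_mul_right (Nat.modEq_zero_iff_dvd.1 hk2) m

/-- The centralizer of a Sylow subgroup of `N`, taken in `G`. -/
abbrev cenIn (Q : Sylow p N) : Subgroup G :=
  Subgroup.centralizer ((((Q : Subgroup N).map N.subtype : Subgroup G)) : Set G)

omit hN in
theorem near_of_mem_cenIn {Q : Sylow p N} {g : G} (hg : g ∈ cenIn Q) : Near p N g :=
  ⟨Q, fun q hq => (Subgroup.mem_centralizer_iff.1 hg _ ⟨q, hq, rfl⟩).symm⟩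

theorem sup_cenIn_normal [Finite G] (Q : Sylow p N) : (N ⊔ cenIn Q).Normal := by
  set R : Subgroup G := (Q : Subgroup N).map N.subtype with hR
  refine ⟨fun y hy g => ?_⟩
  suffices hle : Subgroup.normalizer (R : Set G) ⊔ N ≤
      Subgroup.normalizer ((N ⊔ cenIn Q : Subgroup G) : Set G) by
    rw [Sylow.normalizer_sup_eq_top Q] at hle
    exact (Subgroup.mem_normalizer_iff.1 (hle (Subgroup.mem_top g)) y).1 hy
  refine sup_le (fun u hu => ?_) ((le_sup_left : N ≤ N ⊔ cenIn Q).trans Subgroup.le_normalizer)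
  refine Subgroup.mem_normalizer_fintype fun z hz => ?_
  obtain ⟨a, ha, b, hb, rfl⟩ := Subgroup.mem_sup_of_normal_left.1 hz
  rw [show u * (a * b) * u⁻¹ = u * a * u⁻¹ * (u * b * u⁻¹) by group]
  refine mul_mem (Subgroup.mem_sup_left (hN.conj_mem a ha u))
    (Subgroup.mem_sup_right (Subgroup.mem_centralizer_iff.2 fun q hq => ?_))
  have hq' : u⁻¹ * q * u ∈ R := (Subgroup.mem_normalizer_iff''.1 hu q).1 hq
  have h := Subgroup.mem_centralizer_iff.1 hb _ hq'
  calc q * (u * b * u⁻¹) = u * ((u⁻¹ * q * u) * b) * u⁻¹ := by group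
    _ = u * (b * (u⁻¹ * q * u)) * u⁻¹ := by rw [h]
    _ = _ := by group

/-- The regular elements are congruent to regular elements centralising the Sylow subgroup. -/
theorem exists_lift [Finite G] {Q : Sylow p N} (hidx : ∃ a : ℕ, (N ⊔ cenIn Q).index = p ^ a)
    {g : G} (hg : ¬ p ∣ orderOf g) :
    ∃ c : G, c ∈ cenIn Q ∧ g * c⁻¹ ∈ N ∧ ¬ p ∣ orderOf c := by
  haveI := sup_cenIn_normal Q
  have hp : p.Prime := Fact.out
  have hgM : g ∈ N ⊔ cenIn Q := by
    obtain ⟨a, ha⟩ := hidx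
    rw [← QuotientGroup.eq_one_iff (N := N ⊔ cenIn Q), ← orderOf_eq_one_iff]
    refine Nat.eq_one_of_dvd_coprimes (a := orderOf g) (b := p ^ a)
      (Nat.Coprime.pow_right a (hp.coprime_iff_not_dvd.mpr hg).symm)
      (orderOf_map_dvd (QuotientGroup.mk' (N ⊔ cenIn Q)) g) ?_
    rw [← ha, Subgroup.index_eq_card]
    exact orderOf_dvd_natCard _
  obtain ⟨n, hn, c, hc, rfl⟩ := Subgroup.mem_sup_of_normal_left.1 hgM
  obtain ⟨k, hk, hreg⟩ := exists_regular_pow (p := p) c hg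
  refine ⟨c ^ k, pow_mem hc k, ?_, hreg⟩
  have himg : ((c ^ k : G) : G ⧸ N) = ((n * c : G) : G ⧸ N) := by
    have h1 : ((n * c : G) : G ⧸ N) = (c : G ⧸ N) := by
      rw [QuotientGroup.mk_mul, (QuotientGroup.eq_one_iff n).2 hn, one_mul]
    have h2 : (c : G ⧸ N) ^ orderOf (n * c) = 1 := by
      rw [← h1, ← QuotientGroup.mk_pow, pow_orderOf_eq_one, QuotientGroup.mk_one]
    rw [h1, QuotientGroup.mk_pow]
    conv_rhs => rw [← pow_one (c : G ⧸ N)]
    exact pow_eq_pow_iff_modEq.2 (hk.of_dvd (orderOf_dvd_of_pow_eq_one h2))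
  rw [← QuotientGroup.eq_one_iff, QuotientGroup.mk_mul, QuotientGroup.mk_inv, himg, mul_inv_cancel]

theorem exists_near_lift [Finite G] {Q : Sylow p N} (hidx : ∃ a : ℕ, (N ⊔ cenIn Q).index = p ^ a)
    {g : G} (hg : ¬ p ∣ orderOf g) :
    ∃ c : G, g * c⁻¹ ∈ N ∧ ¬ p ∣ orderOf c ∧ Near p N c := by
  obtain ⟨c, hc, h1, h2⟩ := exists_lift hidx hg
  exact ⟨c, h1, h2, near_of_mem_cenIn hc⟩

section det

variable {X : Type u} [Group X] [Finite X]

/-- The determinants of two representations whose characters differ by a power map. -/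
theorem det_of_char_pow {n n' : ℕ} (ρ : Representation ℂ X (Fin n → ℂ))
    (ρ' : Representation ℂ X (Fin n' → ℂ)) (j : ℕ) (y : X)
    (h : ∀ c ∈ Subgroup.zpowers y, ρ'.character c = ρ.character (c ^ j)) :
    LinearMap.det (ρ' y) = LinearMap.det (ρ y) ^ j := by
  classical
  have := Fintype.ofFinite X
  let C := Subgroup.zpowers y
  let σ : Representation ℂ C (Fin n → ℂ) :=
    { toFun := fun c => ρ ((c : X) ^ j)
      map_one' := by simp
      map_mul' := fun a b => by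
        rw [Subgroup.coe_mul, Commute.mul_pow, map_mul]
        obtain ⟨i, hi⟩ := a.2
        obtain ⟨k, hk⟩ := b.2
        rw [← hi, ← hk]
        exact (Commute.refl y).zpow_zpow i k }
  obtain ⟨E⟩ := Characters.Complete.nonempty_equiv_of_char_eq σ (ρ'.comp C.subtype)
    (funext fun c => (h c c.2).symm)
  let L := E.toLinearEquiv
  let c : C := ⟨y, Subgroup.mem_zpowers y⟩
  have h1 : ρ' y = L.toLinearMap.comp ((σ c).comp L.symm.toLinearMap) := by
    refine LinearMap.ext fun v => ?_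
    have hE := LinearMap.congr_fun (E.toIntertwiningMap.isIntertwining' c) (L.symm v)
    show ρ' y v = L (σ c (L.symm v))
    refine ((hE.trans ?_).symm : _)
    show ρ' y (L (L.symm v)) = ρ' y v
    rw [LinearEquiv.apply_symm_apply]
  rw [h1, LinearMap.det_conj]
  show LinearMap.det (ρ (y ^ j)) = _
  rw [map_pow, map_pow]

theorem detChar_pow_of_eq {χ χ' : Cfsg.IrrCharacter X} {j : ℕ}
    (h : ∀ x, (χ' : X → ℂ) x = (χ : X → ℂ) (x ^ j)) (x : X) :
    Cfsg.detChar (χ' : X → ℂ) x = Cfsg.detChar (χ : X → ℂ) x ^ j := by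
  obtain ⟨n, ρ, hρ, hρc⟩ := exists_rep χ
  obtain ⟨n', ρ', hρ', hρc'⟩ := exists_rep χ'
  haveI := hρ
  haveI := hρ'
  rw [← hρc, ← hρc', Clifford.Rep.detChar_eq ρ, Clifford.Rep.detChar_eq ρ']
  exact det_of_char_pow ρ ρ' j x fun c _ => by rw [hρc, hρc']; exact h c

theorem detChar_twist (l : X →* ℂˣ) (χ : Cfsg.IrrCharacter X) (x : X) :
    Cfsg.detChar (BC78.LinTwist.twist l χ : X → ℂ) x =
      (l x : ℂ) ^ Cfsg.charDegree (χ : X → ℂ) * Cfsg.detChar (χ : X → ℂ) x := by
  obtain ⟨n, ρ, hρ, hρc⟩ := exists_rep χ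
  obtain ⟨n', σ, hσ, hσc⟩ := exists_rep (BC78.LinTwist.twist l χ)
  haveI := hρ
  haveI := hσ
  let τ : Representation ℂ X (Fin n → ℂ) :=
    { toFun := fun c => ((l c : ℂˣ) : ℂ) • ρ c
      map_one' := by simp
      map_mul' := fun a b => by
        rw [map_mul, map_mul, Units.val_mul, smul_mul_smul_comm] }
  have hτ : τ.character = σ.character := by
    funext c
    rw [hσc, BC78.LinTwist.twist_apply, ← hρc]
    show LinearMap.trace ℂ _ (((l c : ℂˣ) : ℂ) • ρ c) = _
    rw [map_smul, smul_eq_mul]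
    rfl
  have hd : Cfsg.charDegree (χ : X → ℂ) = n := by
    rw [← hρc, Cfsg.charDegree, Representation.char_one, Module.finrank_fin_fun, Complex.natCast_re,
      Nat.floor_natCast]
  rw [hd, ← hρc, ← hσc, Clifford.Rep.detChar_eq σ, Clifford.Rep.detChar_eq ρ]
  dsimp only
  rw [← Clifford.Rep.det_eq_of_char σ τ hτ x]
  show LinearMap.det (((l x : ℂˣ) : ℂ) • ρ x) = _
  rw [LinearMap.det_smul, Module.finrank_fin_fun]

/-- Determinants along a homomorphism keeping the character irreducible. -/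
theorem detChar_comp {Y : Type u} [Group Y] [Finite Y] (f : Y →* X) (χ : Cfsg.IrrCharacter X)
    (ψ : Cfsg.IrrCharacter Y) (h : ∀ y, (ψ : Y → ℂ) y = (χ : X → ℂ) (f y)) (y : Y) :
    Cfsg.detChar (ψ : Y → ℂ) y = Cfsg.detChar (χ : X → ℂ) (f y) := by
  obtain ⟨n, ρ, hρ, hρc⟩ := exists_rep χ
  obtain ⟨n', σ, hσ, hσc⟩ := exists_rep ψ
  haveI := hρ
  haveI := hσ
  rw [← hρc, ← hσc, Clifford.Rep.detChar_eq σ, Clifford.Rep.detChar_eq ρ]
  exact (Clifford.Rep.det_eq_of_char σ (ρ.comp f) (funext fun z => by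
    show ρ.character (f z) = _
    rw [hρc, hσc]; exact (h z).symm) y).symm

end det

end Cfsg.Agent.Lib.CanExt26.Setup
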